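import Groth.Agent.ArtFunLib.HR
import Mathlib.RingTheory.Ideal.Cotangent

/-! The tangent space of a local ring as a functor and its cotangent space. -/

set_option autoImplicit false
set_option backward.isDefEq.respectTransparency false
set_option backward.isDefEq.respectTransparency.types false
set_option linter.style.haveILetI false

universe u

open CategoryTheory ArtFun ArtFun.Art IsLocalRing

noncomputable section

namespace Groth.Agent.HilbPointLib

open ArtFunLib

variable {k : Type u} [Field k] {S : Type u} [CommRing S] [IsLocalRing S] [Algebra k S] (resS : S →ₐ[k] k)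

theorem ker_resS : RingHom.ker resS = maximalIdeal S :=
  eq_maximalIdeal (RingHom.ker_isMaximal_of_surjective resS fun c => ⟨algebraMap k S c, resS.commutes c⟩)

theorem sub_algebraMap_mem (s : S) : s - algebraMap k S (resS s) ∈ maximalIdeal S := by
  rw [← ker_resS resS, RingHom.mem_ker, map_sub, AlgHom.commutes]
  exact sub_self _

/-- The class of a function minus its value. -/
def dCls (s : S) : (maximalIdeal S).Cotangent :=
  (maximalIdeal S).toCotangent ⟨s - algebraMap k S (resS s), sub_algebraMap_mem resS s⟩

theorem dCls_of_mem {s : S} (hs : s ∈ maximalIdeal S) : dCls resS s = (maximalIdeal S).toCotangent ⟨s, hs⟩ := by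
  refine congrArg _ (Subtype.ext ?_)
  show s - algebraMap k S (resS s) = s
  rw [← ker_resS resS, RingHom.mem_ker] at hs
  rw [hs, map_zero, sub_zero]

theorem dCls_add (s t : S) : dCls resS (s + t) = dCls resS s + dCls resS t := by
  rw [dCls, dCls, dCls, ← map_add]
  refine congrArg _ (Subtype.ext ?_)
  show s + t - algebraMap k S (resS (s + t)) = (s - algebraMap k S (resS s)) + (t - algebraMap k S (resS t))
  rw [map_add, map_add]
  ring

theorem dCls_algebraMap (c : k) : dCls resS (algebraMap k S c) = 0 := by
  rw [dCls, ← map_zero (maximalIdeal S).toCotangent]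
  refine congrArg _ (Subtype.ext ?_)
  show algebraMap k S c - algebraMap k S (resS (algebraMap k S c)) = 0
  rw [AlgHom.commutes, Algebra.algebraMap_self_apply, sub_self]

theorem dCls_mul (s t : S) : dCls resS (s * t) = resS s • dCls resS t + resS t • dCls resS s := by
  rw [← algebraMap_smul S (resS s), ← algebraMap_smul S (resS t), dCls, dCls, dCls, ← map_smul, ← map_smul, ← map_add,
    (maximalIdeal S).toCotangent_eq]
  show s * t - algebraMap k S (resS (s * t)) - (algebraMap k S (resS s) * (t - algebraMap k S (resS t)) +
    algebraMap k S (resS t) * (s - algebraMap k S (resS s))) ∈ maximalIdeal S ^ 2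
  rw [map_mul, map_mul, sq]
  convert Ideal.mul_mem_mul (sub_algebraMap_mem resS s) (sub_algebraMap_mem resS t) using 1
  ring

theorem exists_dCls (z : (maximalIdeal S).Cotangent) : ∃ s, dCls resS s = z := by
  obtain ⟨⟨s, hs⟩, rfl⟩ := (maximalIdeal S).toCotangent_surjective z
  exact ⟨s, dCls_of_mem resS hs⟩

theorem snd_apply_mul (φ : HomSet S resS (dual k k)) (s t : S) :
    TrivSqZeroExt.snd (R := k) (M := k) (φ.1 (s * t)) =
      resS s * TrivSqZeroExt.snd (R := k) (M := k) (φ.1 t) + TrivSqZeroExt.snd (R := k) (M := k) (φ.1 s) * resS t := by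
  rw [map_mul, ← res_homSet φ s, ← res_homSet φ t]
  exact DualNumber.snd_mul (R := k) (φ.1 s) (φ.1 t)

theorem snd_apply_eq_of_dCls (φ : HomSet S resS (dual k k)) {s t : S} (e : dCls resS s = dCls resS t) :
    TrivSqZeroExt.snd (R := k) (M := k) (φ.1 s) = TrivSqZeroExt.snd (R := k) (M := k) (φ.1 t) := by
  rw [dCls, dCls, (maximalIdeal S).toCotangent_eq] at e
  have h0 : ∀ x ∈ maximalIdeal S ^ 2, TrivSqZeroExt.snd (R := k) (M := k) (φ.1 x) = 0 := fun x hx => by
    rw [sq] at hx
    refine Submodule.mul_induction_on hx (fun a ha b hb => ?_) (fun a b ha hb => ?_)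
    · rw [← ker_resS resS, RingHom.mem_ker] at ha hb
      rw [snd_apply_mul, ha, hb, zero_mul, mul_zero, add_zero]
    · rw [map_add]
      exact (congrArg₂ (· + ·) ha hb).trans (add_zero _)
  have h1 := h0 _ e
  have h2 : ∀ c : k, TrivSqZeroExt.snd (R := k) (M := k) (φ.1 (algebraMap k S c)) = 0 := fun c => by
    rw [φ.1.commutes]; rfl
  rw [map_sub, map_sub, map_sub] at h1
  have h3 : TrivSqZeroExt.snd (R := k) (M := k) (φ.1 s) - TrivSqZeroExt.snd (R := k) (M := k) (φ.1 (algebraMap k S (resS s))) -
      (TrivSqZeroExt.snd (R := k) (M := k) (φ.1 t) - TrivSqZeroExt.snd (R := k) (M := k) (φ.1 (algebraMap k S (resS t)))) = 0 := h1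
  rw [h2, h2, sub_zero, sub_zero, sub_eq_zero] at h3
  exact h3

theorem finrank_tangent [TangentStr (hR S resS)] :
    Module.finrank k (TangentSpace (hR S resS)) = Module.finrank (ResidueField S) (CotangentSpace S) := by
  have hbij : Function.Bijective (algebraMap k (ResidueField S)) := by
    refine ⟨(algebraMap k (ResidueField S)).injective, fun r => ?_⟩
    obtain ⟨s, rfl⟩ := residue_surjective r
    refine ⟨resS s, ?_⟩
    show residue S (algebraMap k S (resS s)) = residue S s
    exact ((Ideal.Quotient.eq (I := maximalIdeal S)).2 (sub_algebraMap_mem resS s)).symm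
  let e : k ≃ₗ[k] ResidueField S := LinearEquiv.ofBijective (Algebra.linearMap k (ResidueField S)) hbij
  haveI : Module.Finite k (ResidueField S) := Module.Finite.equiv e
  haveI : IsScalarTower k (ResidueField S) (CotangentSpace S) := .of_algebraMap_smul fun c z => by
    show (residue S (algebraMap k S c)) • z = c • z
    exact algebraMap_smul S c z
  have h1 : Module.finrank k (CotangentSpace S) = Module.finrank (ResidueField S) (CotangentSpace S) := by
    rw [← Module.finrank_mul_finrank k (ResidueField S) (CotangentSpace S), ← e.finrank_eq, Module.finrank_self, one_mul]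
  rw [← h1]
  refine Eq.trans ?_ Subspace.dual_finrank_eq
  choose σ hσ using exists_dCls resS
  have hwd : ∀ (φ : HomSet S resS (dual k k)) s,
      TrivSqZeroExt.snd (R := k) (M := k) (φ.1 (σ (dCls resS s))) = TrivSqZeroExt.snd (R := k) (M := k) (φ.1 s) :=
    fun φ s => snd_apply_eq_of_dCls resS φ (hσ _)
  let E : HomSet S resS (dual k k) → Module.Dual k (CotangentSpace S) := fun φ =>
    { toFun := fun z => TrivSqZeroExt.snd (R := k) (M := k) (φ.1 (σ z))
      map_add' := fun z w => by
        rw [snd_apply_eq_of_dCls resS φ (show dCls resS (σ (z + w)) = dCls resS (σ z + σ w) by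
          rw [dCls_add, hσ, hσ, hσ]), map_add]
        rfl
      map_smul' := fun c z => by
        rw [snd_apply_eq_of_dCls resS φ (show dCls resS (σ (c • z)) = dCls resS (algebraMap k S c * σ z) by
          rw [dCls_mul, dCls_algebraMap, smul_zero, add_zero, AlgHom.commutes, hσ, hσ]; rfl),
          snd_apply_mul, φ.1.commutes, AlgHom.commutes]
        show c * _ + 0 * _ = c * _
        rw [zero_mul, add_zero] }
  have hE : Function.Bijective E := by
    refine ⟨fun φ ψ e => HomSet.ext' fun s => TrivSqZeroExt.ext (R := k) (M := k) ?_ ?_, fun l => ?_⟩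
    · exact (res_homSet φ s).trans (res_homSet ψ s).symm
    · rw [← hwd φ s, ← hwd ψ s]
      exact LinearMap.congr_fun e (dCls resS s)
    · let D : S →ₐ[k] DualNumber k :=
        { toFun := fun s => ((resS s, l (dCls resS s)) : DualNumber k)
          map_one' := TrivSqZeroExt.ext (map_one resS) (by
            show l (dCls resS 1) = 0
            rw [show dCls resS 1 = 0 from by rw [← map_one (algebraMap k S), dCls_algebraMap], map_zero])
          map_zero' := TrivSqZeroExt.ext (map_zero resS) (by
            show l (dCls resS 0) = 0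
            rw [show dCls resS 0 = 0 from by rw [← map_zero (algebraMap k S), dCls_algebraMap], map_zero])
          map_add' := fun s t => TrivSqZeroExt.ext (map_add resS s t) (by
            show l (dCls resS (s + t)) = l (dCls resS s) + l (dCls resS t)
            rw [dCls_add, map_add])
          map_mul' := fun s t => TrivSqZeroExt.ext (map_mul resS s t) (by
            show l (dCls resS (s * t)) = resS s • l (dCls resS t) + MulOpposite.op (resS t) • l (dCls resS s)
            rw [dCls_mul, map_add, map_smul, map_smul, op_smul_eq_smul])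
          commutes' := fun c => TrivSqZeroExt.ext (resS.commutes c) (by
            show l (dCls resS (algebraMap k S c)) = 0
            rw [dCls_algebraMap, map_zero]) }
      refine ⟨⟨D, AlgHom.ext fun s => rfl⟩, LinearMap.ext fun z => ?_⟩
      show l (dCls resS (σ z)) = l z
      rw [hσ]
  have hadd : ∀ x y : TangentSpace (hR S resS), E (x + y : TangentSpace (hR S resS)) = E x + E y := fun x y => by
    obtain ⟨z, hz1, hz2⟩ := (cmp_surjective_iff (isFibreProd_dual2 (Λ := k) (k := k))).mp
      (hR_heps resS _ _ isFibreProd_dual2).2 x y (@Subsingleton.elim _ (hR_h0 resS).2 _ _)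
    have e1 : x + y = TangentSpace.mk ((hR S resS).map plus z) := by
      rw [← hz1, ← hz2]; exact TangentStr.add_eq z
    rw [e1, ← hz1, ← hz2]
    rfl
  have hsmul : ∀ (c : k) (x : TangentSpace (hR S resS)), E (c • x : TangentSpace (hR S resS)) = c • E x := fun c x => by
    rw [show c • x = TangentSpace.mk ((hR S resS).map (scale c) x) from TangentStr.smul_eq c x]
    rfl
  let EL : TangentSpace (hR S resS) →ₗ[k] Module.Dual k (CotangentSpace S) :=
    { toFun := E, map_add' := hadd, map_smul' := hsmul }
  exact (LinearEquiv.ofBijective EL hE).finrank_eq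

end Groth.Agent.HilbPointLib
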