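import Groth.Agent.HilbPointLib.Points
import Groth.Agent.HilbCurveLib.Pull
import Groth.Agent.ArtFunLib.Functor
import Groth.Prelude.Def_FGA

/-! The local Hilbert functor at a point of a Hilbert scheme. -/

set_option autoImplicit false
set_option backward.isDefEq.respectTransparency false
set_option backward.isDefEq.respectTransparency.types false
set_option linter.style.haveILetI false

universe u

open CategoryTheory CategoryTheory.Limits AlgebraicGeometry ArtFun ArtFun.Art

noncomputable section

namespace Groth.Agent.HilbPointLib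

variable {X S : Scheme.{u}} (f : X ⟶ S)

theorem hilbPull_eq {T T' : Over S} (g : T' ⟶ T) (I : (PicF.XT f T).IdealSheafData) :
    FGA.hilbPull f g I = I.comap (PicF.XTmap f g) := by
  rw [FGA.hilbPull, ← pullbackSymmetry_hom_comp_fst, Scheme.Hom.ker_comp_of_isIso]
  rfl

/-- The pullback of a family in the Hilbert functor. -/
theorem proper_flat_comap {T T' : Over S} (g : T' ⟶ T) (I : FGA.HilbSet f T) :
    IsProper ((I.1.comap (PicF.XTmap f g)).subschemeι ≫ PicF.XTproj f T') ∧
      Flat ((I.1.comap (PicF.XTmap f g)).subschemeι ≫ PicF.XTproj f T') := by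
  have sq : IsPullback (pullback.snd (PicF.XTmap f g) I.1.subschemeι)
      (pullback.fst (PicF.XTmap f g) I.1.subschemeι ≫ PicF.XTproj f T')
      (I.1.subschemeι ≫ PicF.XTproj f T) g.left :=
    IsPullback.paste_vert (IsPullback.of_hasPullback (PicF.XTmap f g) I.1.subschemeι).flip
      (HilbCurveLib.isPullback_XTmap f g)
  rw [← Scheme.IdealSheafData.comapIso_hom_fst, Category.assoc]
  exact ⟨(MorphismProperty.cancel_left_of_respectsIso @IsProper _ _).2 (MorphismProperty.of_isPullback sq I.2.1),
    (MorphismProperty.cancel_left_of_respectsIso @Flat _ _).2 (MorphismProperty.of_isPullback sq I.2.2)⟩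

/-- The pullback of a family as an element of the Hilbert functor. -/
def pullSet {T T' : Over S} (g : T' ⟶ T) (I : FGA.HilbSet f T) : FGA.HilbSet f T' :=
  ⟨I.1.comap (PicF.XTmap f g), proper_flat_comap f g I⟩

variable {k : Type u} [Field k] {Y : Scheme.{u}} (y : Y ⟶ specPt k)

/-- The fibre as a section of the projection. -/
def e₀ : Y ⟶ PicF.XT y (Over.mk (𝟙 (specPt k))) := pullback.lift (𝟙 Y) y (by simp)

theorem fst_e₀ : pullback.fst y (Over.mk (𝟙 (specPt k))).hom ≫ e₀ y = 𝟙 _ := by
  refine pullback.hom_ext ?_ ?_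
  · rw [Category.assoc, e₀, pullback.lift_fst, Category.comp_id, Category.id_comp]
  · rw [Category.assoc, e₀, pullback.lift_snd, Category.id_comp]
    exact pullback.condition.trans (Category.comp_id _)

theorem e₀_fst : e₀ y ≫ pullback.fst y (Over.mk (𝟙 (specPt k))).hom = 𝟙 _ := pullback.lift_fst _ _ _

theorem XAincl_eq (A : Art k k) : XAincl y A = e₀ y ≫ PicF.XTmap y (resA A) := by
  refine pullback.hom_ext ?_ ?_
  · rw [XAincl_fst, Category.assoc]
    erw [HilbCurveLib.XTmap_fst]
    rw [e₀, pullback.lift_fst]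
  · rw [XAincl_snd, Category.assoc]
    erw [HilbCurveLib.XTmap_snd]
    rw [e₀, pullback.lift_snd_assoc]
    rfl

variable {H : Over (specPt k)} (h : Over.mk (𝟙 (specPt k)) ⟶ H) (Z : FGA.HilbSet y H) (J : Y.IdealSheafData)
  (hh : FGA.hilbPull y h Z.1 = J.comap (pullback.fst y (Over.mk (𝟙 (specPt k))).hom))

include hh in
theorem comap_fibre {A : Art k k} {g : TA A ⟶ H} (hg : resA A ≫ g = h) :
    (Z.1.comap (PicF.XTmap y g)).comap (XAincl y A) = J := by
  rw [XAincl_eq, Scheme.IdealSheafData.comap_comp (f := e₀ y), ← Scheme.IdealSheafData.comap_comp (f := PicF.XTmap y (resA A)),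
    ← HilbCurveLib.XTmap_comp, hg, ← hilbPull_eq, hh, ← Scheme.IdealSheafData.comap_comp, e₀_fst,
    Scheme.IdealSheafData.comap_id]

/-- The element of the local Hilbert functor classified by a point. -/
def ofPt {A : Art k k} (φ : letI := algStk H h; HomSet (stk H h) (resStk H h) A) : (localHilb Y y J).obj A :=
  ⟨Z.1.comap (PicF.XTmap y (toPt H h φ)), (proper_flat_comap y (toPt H h φ) Z).2,
    comap_fibre y h Z J hh (resA_toPt H h φ)⟩

theorem ofPt_natural {A B : Art k k} (g : A ⟶ B) (φ : letI := algStk H h; HomSet (stk H h) (resStk H h) A) :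
    letI := algStk H h
    (localHilb Y y J).map g (ofPt y h Z J hh φ) = ofPt y h Z J hh (HomSet.map g φ) := by
  letI := algStk H h
  refine Subtype.ext ?_
  show (Z.1.comap (PicF.XTmap y (toPt H h φ))).comap (XAmap y g) = Z.1.comap (PicF.XTmap y (toPt H h (HomSet.map g φ)))
  rw [toPt_map, HilbCurveLib.XTmap_comp, Scheme.IdealSheafData.comap_comp]
  rfl

/-- The morphism from the Artinian points to the local Hilbert functor. -/
def ptMor : letI := algStk H h; ArtFunLib.Mor (hR (stk H h) (resStk H h)) (localHilb Y y J) :=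
  letI := algStk H h
  { app := fun A φ => ofPt y h Z J hh φ
    natural := fun f φ => (ofPt_natural y h Z J hh f φ).symm }

omit hh in
theorem hilbPull_point {A : Art k k} (g : TA A ⟶ H) (W : (PicF.XT y H).IdealSheafData) (J : Y.IdealSheafData)
    (hK : (W.comap (PicF.XTmap y g)).comap (XAincl y A) = J) :
    FGA.hilbPull y (resA A ≫ g) W = J.comap (pullback.fst y (Over.mk (𝟙 (specPt k))).hom) := by
  have h1 : FGA.hilbPull y (resA A ≫ g) W = (W.comap (PicF.XTmap y g)).comap (PicF.XTmap y (resA A)) := by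
    rw [hilbPull_eq, HilbCurveLib.XTmap_comp, Scheme.IdealSheafData.comap_comp]
  refine h1.trans ?_
  subst hK
  generalize W.comap (PicF.XTmap y g) = K
  rw [← Scheme.IdealSheafData.comap_comp, XAincl_eq, ← Category.assoc, fst_e₀, Category.id_comp]

theorem bijective_ptMor [IsProper y] (hH : FGA.HilbRepresentedBy y H Z) (A : Art k k) :
    Function.Bijective (ofPt y h Z J hh (A := A)) := by
  haveI : IsLocallyNoetherian (TA A).left := inferInstanceAs (IsLocallyNoetherian (Spec (CommRingCat.of A)))
  haveI : IsLocallyNoetherian (Over.mk (𝟙 (specPt k))).left := inferInstanceAs (IsLocallyNoetherian (Spec (CommRingCat.of k)))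
  refine ⟨fun φ ψ e => toPt_injective H h ?_, fun I => ?_⟩
  · obtain ⟨g, -, hu⟩ := hH.2 (TA A) (pullSet y (toPt H h ψ) Z)
    exact (hu (toPt H h φ) ((hilbPull_eq y _ _).trans (congrArg Subtype.val e))).trans
      (hu (toPt H h ψ) (hilbPull_eq y _ _)).symm
  · haveI : IsProper (XApr y A) := MorphismProperty.pullback_snd _ _ inferInstance
    haveI : IsProper (I.1.subschemeι ≫ XApr y A) := inferInstance
    let T : FGA.HilbSet y (TA A) := ⟨I.1, this, I.2.1⟩
    obtain ⟨g, hg, -⟩ := hH.2 (TA A) T
    rw [hilbPull_eq] at hg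
    have hres : resA A ≫ g = h := by
      obtain ⟨g₀, -, hu⟩ := hH.2 (Over.mk (𝟙 (specPt k))) (pullSet y h Z)
      refine (hu (resA A ≫ g) ?_).trans (hu h (hilbPull_eq y _ _)).symm
      exact (hilbPull_point y g Z.1 J (congrArg (fun K : (XA y A).IdealSheafData => K.comap (XAincl y A)) hg |>.trans I.2.2)).trans
        (hh.symm.trans (hilbPull_eq y h Z.1))
    obtain ⟨φ, hφ⟩ := exists_toPt H h g hres
    exact ⟨φ, Subtype.ext (by show Z.1.comap (PicF.XTmap y (toPt H h φ)) = I.1; rw [hφ]; exact hg)⟩

end Groth.Agent.HilbPointLib
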