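import Groth.Prelude.Def_ArtFun6
import Mathlib.AlgebraicGeometry.Stalk

/-! Artinian points of a scheme at a rational point. -/

set_option autoImplicit false
set_option backward.isDefEq.respectTransparency false
set_option backward.isDefEq.respectTransparency.types false
set_option linter.style.haveILetI false

universe u

open CategoryTheory CategoryTheory.Limits AlgebraicGeometry ArtFun ArtFun.Art

noncomputable section

namespace Groth.Agent.HilbPointLib

variable {k : Type u} [Field k] (H : Over (specPt k)) (h : Over.mk (𝟙 (specPt k)) ⟶ H)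

/-- The underlying point. -/
abbrev ptH : H.left := h.left.base (IsLocalRing.closedPoint k)

/-- The local ring at the point. -/
abbrev stk : CommRingCat.{u} := H.left.presheaf.stalk (ptH H h)

/-- The scalars in the local ring. -/
def alpha : CommRingCat.of k ⟶ stk H h := Spec.preimage (H.left.fromSpecStalk (ptH H h) ≫ H.hom)

theorem specMap_alpha : Spec.map (alpha H h) = H.left.fromSpecStalk (ptH H h) ≫ H.hom := Spec.map_preimage _

/-- The evaluation at the point. -/
def evalPt : stk H h ⟶ CommRingCat.of k := Scheme.stalkClosedPointTo (R := CommRingCat.of k) h.left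

theorem specMap_evalPt : Spec.map (evalPt H h) ≫ H.left.fromSpecStalk (ptH H h) = h.left :=
  Scheme.Spec_stalkClosedPointTo_fromSpecStalk (R := CommRingCat.of k) h.left

theorem alpha_evalPt : alpha H h ≫ evalPt H h = 𝟙 _ := by
  apply Spec.map_injective
  rw [Spec.map_comp, specMap_alpha, ← Category.assoc, specMap_evalPt, Spec.map_id]
  exact Over.w h

/-- The local ring as an algebra over the field. -/
@[reducible] def algStk : Algebra k (stk H h) := (alpha H h).hom.toAlgebra

/-- The evaluation at the point as a map of algebras. -/
def resStk : letI := algStk H h; (stk H h) →ₐ[k] k :=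
  letI := algStk H h
  { (evalPt H h).hom with
    commutes' := fun c => congrArg (fun f : CommRingCat.of k ⟶ CommRingCat.of k => f c) (alpha_evalPt H h) }

/-- The spectrum of an Artinian algebra over the field. -/
abbrev TA (A : Art k k) : Over (specPt k) := Over.mk (specOver A)

/-- Morphisms over the field from the spectrum of a map of algebras. -/
abbrev omA {A B : Art k k} (g : A ⟶ B) : TA B ⟶ TA A := Over.homMk (specMap g) (specOver_comp g)

/-- The point of `Spec A`. -/
def resA (A : Art k k) : Over.mk (𝟙 (specPt k)) ⟶ TA A :=
  Over.homMk (specRes A) (by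
    show specRes A ≫ specMap (ofBase A) = 𝟙 _
    rw [specRes_comp]
    exact (Category.id_comp _).symm.trans (comp_specRes_base (Λ := k) (𝟙 (specPt k))))

/-- The point given by a map on the local ring. -/
def toPt {A : Art k k} (φ : letI := algStk H h; HomSet (stk H h) (resStk H h) A) : TA A ⟶ H :=
  letI := algStk H h
  Over.homMk (Spec.map (CommRingCat.ofHom φ.1.toRingHom) ≫ H.left.fromSpecStalk (ptH H h)) (by
    rw [Category.assoc, ← specMap_alpha, ← Spec.map_comp]
    show Spec.map _ = Spec.map _
    congr 1
    ext c
    exact φ.1.commutes c)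

theorem resA_toPt {A : Art k k} (φ : letI := algStk H h; HomSet (stk H h) (resStk H h) A) :
    resA A ≫ toPt H h φ = h := by
  letI := algStk H h
  refine Over.OverMorphism.ext ?_
  show Spec.map _ ≫ Spec.map _ ≫ H.left.fromSpecStalk (ptH H h) = h.left
  rw [← Category.assoc, ← Spec.map_comp, show CommRingCat.ofHom φ.1.toRingHom ≫ CommRingCat.ofHom A.res.toRingHom =
    evalPt H h from CommRingCat.hom_ext (congrArg AlgHom.toRingHom φ.2), specMap_evalPt]

theorem toPt_map {A B : Art k k} (g : A ⟶ B) (φ : letI := algStk H h; HomSet (stk H h) (resStk H h) A) :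
    letI := algStk H h
    toPt H h (HomSet.map g φ) = omA g ≫ toPt H h φ := by
  letI := algStk H h
  refine Over.OverMorphism.ext ?_
  show Spec.map _ ≫ _ = Spec.map _ ≫ Spec.map _ ≫ _
  rw [← Category.assoc, ← Spec.map_comp]
  rfl

theorem toPt_injective {A : Art k k} : Function.Injective (toPt H h (A := A)) := by
  letI := algStk H h
  intro φ ψ e
  have e' := congrArg CommaMorphism.left e
  have h1 := Spec.map_injective ((cancel_mono (H.left.fromSpecStalk (ptH H h))).1 e')
  exact Subtype.ext (AlgHom.ext fun s => congrArg (fun f : stk H h ⟶ CommRingCat.of A => f s) h1)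

theorem exists_toPt {A : Art k k} (g : TA A ⟶ H) (hg : resA A ≫ g = h) :
    ∃ φ, toPt H h (A := A) φ = g := by
  letI := algStk H h
  have hg' : specRes A ≫ g.left = h.left := congrArg CommaMorphism.left hg
  let f : Spec (CommRingCat.of A) ⟶ H.left := g.left
  have hpt : f.base (IsLocalRing.closedPoint A) = ptH H h := by
    show f.base _ = h.left.base _
    rw [← hg']
    show f.base _ = f.base ((specRes A).base _)
    congr 1
    haveI : IsLocalHom A.res.toRingHom :=
      ⟨fun a ha => by_contra fun hn => by
        have h0 := (mem_maximalIdeal_iff A a).1 ((IsLocalRing.mem_maximalIdeal a).2 hn)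
        rw [show A.res.toRingHom a = 0 from h0] at ha
        exact not_isUnit_zero ha⟩
    exact (IsLocalRing.comap_closedPoint A.res.toRingHom).symm
  let ψ : stk H h ⟶ CommRingCat.of A :=
    H.left.presheaf.stalkSpecializes (specializes_of_eq hpt) ≫ Scheme.stalkClosedPointTo (R := CommRingCat.of A) f
  have hψ : Spec.map ψ ≫ H.left.fromSpecStalk (ptH H h) = f := by
    rw [Spec.map_comp, Category.assoc, Scheme.SpecMap_stalkSpecializes_fromSpecStalk]
    exact Scheme.Spec_stalkClosedPointTo_fromSpecStalk (R := CommRingCat.of A) f
  have hα : alpha H h ≫ ψ = CommRingCat.ofHom (algebraMap k A) := by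
    apply Spec.map_injective
    rw [Spec.map_comp, specMap_alpha, ← Category.assoc, hψ]
    exact Over.w g
  have hres : ψ ≫ CommRingCat.ofHom A.res.toRingHom = evalPt H h := by
    apply Spec.map_injective
    rw [← cancel_mono (H.left.fromSpecStalk (ptH H h)), Spec.map_comp, Category.assoc, hψ, specMap_evalPt]
    exact hg'
  let φ : HomSet (stk H h) (resStk H h) A :=
    ⟨{ ψ.hom with commutes' := fun c => congrArg (fun f : CommRingCat.of k ⟶ CommRingCat.of A => f c) hα },
      AlgHom.ext fun s => congrArg (fun f : stk H h ⟶ CommRingCat.of k => f s) hres⟩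
  exact ⟨φ, Over.OverMorphism.ext hψ⟩

end Groth.Agent.HilbPointLib
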