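import Groth.Agent.HilbPointLib.Family
import Groth.Agent.RegPointLib.Smooth
import Groth.Agent.S12326
import Groth.Agent.HilbObsLib.Induct

/-! Unobstructed points of a Quot scheme are regular points. -/

set_option autoImplicit false
set_option backward.isDefEq.respectTransparency false
set_option backward.isDefEq.respectTransparency.types false
set_option linter.style.haveILetI false

universe u

open CategoryTheory CategoryTheory.Limits AlgebraicGeometry ArtFun ArtFun.Art

noncomputable section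

namespace Groth.Agent.HilbPointLib

variable {k : Type u} [Field k] {X : Scheme.{u}} (x : X ⟶ Spec (CommRingCat.of k)) (E : X.Modules)

theorem quotPull_trans {T T' T'' : Over (Spec (CommRingCat.of k))} (g' : T'' ⟶ T') (g : T' ⟶ T)
    (K : Subobject (FGA.ET x E T)) :
    FGA.quotPull x E g' (FGA.quotPull x E g K) = FGA.quotPull x E (g' ≫ g) K :=
  HilbObsLib.quotPull_comp x E g' g (HilbCurveLib.XTmap_comp x g g').symm K

theorem exists_quotPull {T T' : Over (Spec (CommRingCat.of k))} (g : T' ⟶ T) (K : FGA.QuotSet x E T) :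
    ∃ K' : FGA.QuotSet x E T', FGA.quotPull x E g K.1 = K'.1 := by
  let F := (Scheme.Modules.pullback (PicF.XTmap x g)).map K.1.arrow ≫ (FGA.ETiso x E g).hom
  have hcomm : (Scheme.Modules.pullback (PicF.XTmap x g)).map K.1.arrow ≫ (FGA.ETiso x E g).hom =
      factorThruImageSubobject F ≫ (imageSubobject F).arrow := (imageSubobject_arrow_comp F).symm
  obtain ⟨i₁⟩ := HilbObsLib.nonempty_cokernel_iso (FGA.ETiso x E g) hcomm
  let i₂ := i₁.symm ≪≫ (PreservesCokernel.iso (Scheme.Modules.pullback (PicF.XTmap x g)) K.1.arrow).symm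
  haveI := K.2.1.1
  exact ⟨⟨FGA.quotPull x E g K.1, TildeOpenLib.isCoh_of_iso' i₂.symm (PullbackMod.isCoh_pullback _ _ K.2.1),
    fun w => PullbackMod.isFlatOverAt_of_iso i₂.symm _ w
      (PullbackMod.isFlatOverAt_baseChange (PullbackMod.isPullback_XTmap x g) _ w (K.2.2 _))⟩, rfl⟩

variable [LocallyOfFiniteType x]

theorem quot_regular_aux (hE : Coh.IsCoh E) (Q : Over (Spec (CommRingCat.of k))) (Ku : FGA.QuotSet x E Q)
    (hQ : FGA.QuotRepresentedBy x E Q Ku) (T₀ : Over (Spec (CommRingCat.of k))) (g : T₀ ⟶ Q)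
    (K₀ : FGA.QuotSet x E T₀) (hg : FGA.quotPull x E g Ku.1 = K₀.1)
    [HasExt.{u} (PicF.XT x T₀).Modules]
    (hExt : Subsingleton (Abelian.Ext.{u} (Subobject.underlying.obj K₀.1) (cokernel K₀.1.arrow) 1))
    (h : Over.mk (𝟙 (specPt k)) ⟶ Q) (e : T₀ = Over.mk (𝟙 (specPt k))) (hgh : g = eqToHom e ≫ h) :
    IsRegularLocalRing (stk Q h) := by
  have e₀ : Over.mk (specOver (base k k)) = T₀ := by
    rw [e]
    congr 1
    show specMap (ofBase (base k k)) = _
    rw [show ofBase (base k k) = 𝟙 _ from Art.hom_ext (AlgHom.ext fun c => rfl), specMap_id]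
    rfl
  subst e₀
  letI := algStk Q h
  haveI : IsLocallyNoetherian Q.left := hQ.1
  refine RegPointLib.isRegularLocalRing_of_isSmoothFunctor (resStk Q h) fun B A μ hμ φ => ?_
  haveI : ∀ C : Art k k, IsLocallyNoetherian (TA C).left := fun C =>
    inferInstanceAs (IsLocallyNoetherian (Spec (CommRingCat.of C)))
  let g' := toPt Q h φ
  -- the quotient classified by `φ`
  obtain ⟨K, hK⟩ : ∃ K : FGA.QuotSet x E (TA A), FGA.quotPull x E g' Ku.1 = K.1 := exists_quotPull x E g' Ku
  have hres : ∀ C : Art k k, (Over.homMk (specMap (toBase C)) (specOver_comp (toBase C)) :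
      Over.mk (specOver (base k k)) ⟶ TA C) = eqToHom e ≫ resA C := fun C => by
    refine Over.OverMorphism.ext ?_
    show specMap (toBase C) = _
    rw [Over.comp_left, Over.eqToHom_left, eqToHom_refl]
    exact (Category.id_comp _).symm
  have h0 : FGA.quotPull x E (Over.homMk (specMap (toBase A)) (specOver_comp (toBase A))) K.1 = K₀.1 := by
    rw [← hK, quotPull_trans, hres, Category.assoc, resA_toPt, ← hgh]
    exact hg
  obtain ⟨K', hK'⟩ := S12326.result X x E hE μ hμ K K₀ h0 hExt
  obtain ⟨g'', hg'', -⟩ := hQ.2 (TA B) K'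
  obtain ⟨g₁, -, hu⟩ := hQ.2 (TA A) K
  have hcomp : omA μ ≫ g'' = g' :=
    (hu _ ((quotPull_trans x E (omA μ) g'' Ku.1).symm.trans ((congrArg _ hg'').trans hK'))).trans (hu _ hK).symm
  have hpt : resA B ≫ g'' = h := by
    rw [← resA_toPt Q h φ]
    show _ = resA A ≫ g'
    rw [← hcomp, ← Category.assoc]
    refine congrArg (· ≫ g'') (Over.OverMorphism.ext ?_)
    show specRes B = specRes A ≫ specMap μ
    exact (specRes_comp μ).symm
  obtain ⟨ψ, hψ⟩ := exists_toPt Q h g'' hpt
  exact ⟨ψ, toPt_injective Q h ((toPt_map Q h μ ψ).trans (by rw [hψ]; exact hcomp))⟩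

end Groth.Agent.HilbPointLib
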