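import Groth.Agent.HilbPointLib.Family
import Groth.Agent.RegPointLib.Smooth

/-! Unobstructed points of a Hilbert scheme are regular points. -/

set_option autoImplicit false
set_option backward.isDefEq.respectTransparency false
set_option backward.isDefEq.respectTransparency.types false
set_option linter.style.haveILetI false

universe u

open CategoryTheory CategoryTheory.Limits AlgebraicGeometry ArtFun ArtFun.Art

noncomputable section

namespace Groth.Agent.HilbPointLib

variable {k : Type u} [Field k] {Y : Scheme.{u}} (y : Y ⟶ specPt k) [IsProper y]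
  {H : Over (specPt k)} (h : Over.mk (𝟙 (specPt k)) ⟶ H) (Z : FGA.HilbSet y H) (J : Y.IdealSheafData)
  (hh : FGA.hilbPull y h Z.1 = J.comap (pullback.fst y (Over.mk (𝟙 (specPt k))).hom))

include hh in
theorem isSmoothFunctor_stk (hH : FGA.HilbRepresentedBy y H Z) (hsm : IsSmoothFunctor (localHilb Y y J)) :
    letI := algStk H h
    IsSmoothFunctor (hR (stk H h) (resStk H h)) := by
  letI := algStk H h
  intro B A μ hμ φ
  obtain ⟨s, hs⟩ := hsm μ hμ (ofPt y h Z J hh φ)
  obtain ⟨ψ, rfl⟩ := (bijective_ptMor y h Z J hh hH B).2 s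
  refine ⟨ψ, (bijective_ptMor y h Z J hh hH A).1 ?_⟩
  rw [ofPt_natural] at hs
  exact hs

include hh in
theorem isRegularLocalRing_stk (hH : FGA.HilbRepresentedBy y H Z) (hsm : IsSmoothFunctor (localHilb Y y J)) :
    IsRegularLocalRing (stk H h) := by
  letI := algStk H h
  haveI : IsLocallyNoetherian H.left := hH.1
  exact RegPointLib.isRegularLocalRing_of_isSmoothFunctor (resStk H h) (isSmoothFunctor_stk y h Z J hh hH hsm)

end Groth.Agent.HilbPointLib
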