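import Groth.Agent.HilbPointLib.Family
import Groth.Agent.HilbPointLib.Cotangent
import Groth.Agent.TanHilbLib.Equiv

/-! The tangent space of a Hilbert scheme at a rational point. -/

set_option autoImplicit false
set_option backward.isDefEq.respectTransparency false
set_option backward.isDefEq.respectTransparency.types false
set_option linter.style.haveILetI false

universe u

open CategoryTheory CategoryTheory.Limits AlgebraicGeometry ArtFun ArtFun.Art

noncomputable section

namespace Groth.Agent.HilbPointLib

open ArtFunLib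

variable {k : Type u} [Field k] {Y : Scheme.{u}} (y : Y ⟶ specPt k) [IsProper y]
  {H : Over (specPt k)} (h : Over.mk (𝟙 (specPt k)) ⟶ H) (Z : FGA.HilbSet y H) (hH : FGA.HilbRepresentedBy y H Z)
  {X : Scheme.{u}} [X.Over (Spec (CommRingCat.of k))] (i : X ⟶ Y) [IsClosedImmersion i]
  (hi : i ≫ y = X ↘ Spec (CommRingCat.of k))
  (hh : FGA.hilbPull y h Z.1 = i.ker.comap (pullback.fst y (Over.mk (𝟙 (specPt k))).hom))

include hH hi hh in
theorem finrank_cotangent [DCoh.HasSheafHom (Omega.conormal i)] :
    Module.finrank (IsLocalRing.ResidueField (stk H h)) (IsLocalRing.CotangentSpace (stk H h)) =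
      Module.finrank k (Coh.HH X ((DCoh.sheafHom (Omega.conormal i)).obj (Coh.structureModule X)) 0) := by
  letI := algStk H h
  haveI : IsLocallyNoetherian H.left := hH.1
  obtain ⟨T⟩ := nonempty_tangentStr (LocHilbGlueLib.h0 y i.ker)
    (fun B A' p' p'' hB => LocHilbGlueLib.cmp_bijective y i.ker hB LocHilbGlueLib.isSmallExt_dual)
  letI := T
  obtain ⟨T'⟩ := nonempty_tangentStr (hR_h0 (resStk H h)) (hR_heps (resStk H h))
  letI := T'
  obtain ⟨f, hf⟩ := Mor.exists_tangent_linear (hR_h0 (resStk H h)) (hR_heps (resStk H h))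
    (ptMor y h Z i.ker hh)
  have hbij : Function.Bijective f := by
    have hf' : (f : _ → _) = fun φ => TangentSpace.mk (ofPt y h Z i.ker hh φ) := funext hf
    rw [hf']
    exact bijective_ptMor y h Z i.ker hh hH (dual k k)
  obtain ⟨e⟩ := TanHilbLib.nonempty_linearEquiv y i hi (rfl : i.ker = i.ker)
  rw [← finrank_tangent (resStk H h), (LinearEquiv.ofBijective f hbij).finrank_eq]
  exact e.finrank_eq

end Groth.Agent.HilbPointLib
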